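import Groth.Agent.SubMod72.ToModules

/-!
Gabber's lemma: every section of a quasi-coherent module over an affine open lies in a
quasi-coherent submodule whose sections over each affine open are generated by a set which is
bounded in terms of the scheme only.
-/

set_option autoImplicit false
set_option backward.isDefEq.respectTransparency.types false

noncomputable section

universe u

open CategoryTheory Limits AlgebraicGeometry TopologicalSpace Opposite
open Groth.Agent.QC70

namespace Groth.Agent.QCGroth72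

open SubMod72

variable {X : Scheme.{u}}

/-- The generators appearing after `k` steps. -/
def Idx (X : Scheme.{u}) : ℕ → X.affineOpens → Type u
  | 0, _ => PUnit
  | k + 1, U => Idx X k U ⊕ (Σ V : X.affineOpens, Idx X k V × ℕ) ⊕ (Σ V : X.affineOpens, Idx X k V)

/-- The generators. -/
def GenIdx (U : X.affineOpens) : Type u := Σ k : ℕ, Idx X k U

section

variable (M : X.Modules)

open scoped Classical in
/-- Restriction between affine opens, zero if there is no inclusion. -/
def resOr (U V : X.affineOpens) (x : Γ(M, V.1)) : Γ(M, U.1) :=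
  if h : U.1 ≤ V.1 then res M h x else 0

variable [M.IsQuasicoherent]

/-- Sections over a larger affine open span the sections over a smaller one. -/
theorem mem_span_res {U V : X.Opens} (hU : IsAffineOpen U) (hV : IsAffineOpen V) (h : V ≤ U)
    (x : Γ(M, V)) : x ∈ Submodule.span Γ(X, V) (res M h '' Set.univ) := by
  refine mem_span_of_mem_locSpan hV fun p hp _ => ?_
  obtain ⟨g, hg, hpg⟩ := hU.exists_basicOpen_le (⟨p, hp⟩ : V) (h hp)
  refine ⟨X.basicOpen g, hg, hg, hpg, ?_⟩
  obtain ⟨k, t, ht⟩ := (isLocAt_of_isQuasicoherent M hU).exists_of g (res M hg x)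
  have hu : IsUnit (resO X (X.basicOpen_le g) g ^ k) :=
    IsUnit.pow _ (RingedSpace.isUnit_res_basicOpen _ g)
  rw [← Submodule.smul_mem_iff_of_isUnit _ hu, ← ht]
  refine Submodule.subset_span ⟨res M h t, ⟨t, trivial, rfl⟩, ?_⟩
  rw [res_res]

theorem exists_gen (U V : X.affineOpens) (x : Γ(M, V.1)) : ∃ g : ℕ → Γ(M, U.1),
    ∀ h : V.1 ≤ U.1, x ∈ Submodule.span Γ(X, V.1) (Set.range fun n => res M h (g n)) := by
  classical
  by_cases h : V.1 ≤ U.1
  · obtain ⟨T, hT, hx⟩ := Submodule.mem_span_finite_of_mem_span (mem_span_res M U.2 V.2 h x)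
    have : ∀ t : T, ∃ y, res M h y = t.1 := fun t => by
      obtain ⟨y, -, hy⟩ := hT t.2
      exact ⟨y, hy⟩
    choose y hy using this
    let e := T.equivFin
    refine ⟨fun n => if hn : n < T.card then y (e.symm ⟨n, hn⟩) else 0, fun _ => ?_⟩
    refine Submodule.span_mono ?_ hx
    intro t ht
    refine ⟨(e (⟨t, ht⟩ : T) : ℕ), ?_⟩
    simp only [Fin.is_lt, dite_true, Fin.eta, Equiv.symm_apply_apply]
    exact hy ⟨t, ht⟩
  · exact ⟨0, fun h' => absurd h' h⟩

/-- A choice of sections over `U` whose restrictions span a given section over `V`. -/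
def gen (U V : X.affineOpens) (x : Γ(M, V.1)) : ℕ → Γ(M, U.1) := (exists_gen M U V x).choose

theorem gen_spec (U V : X.affineOpens) (x : Γ(M, V.1)) (h : V.1 ≤ U.1) :
    x ∈ Submodule.span Γ(X, V.1) (Set.range fun n => res M h (gen M U V x n)) :=
  (exists_gen M U V x).choose_spec h

variable (U₀ : X.affineOpens) (s : Γ(M, U₀.1))

/-- The value of a generator. -/
def val : ∀ (k : ℕ) (U : X.affineOpens), Idx X k U → Γ(M, U.1)
  | 0, U, _ => resOr M U U₀ s
  | k + 1, U, .inl i => val k U i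
  | k + 1, U, .inr (.inl ⟨V, i, n⟩) => gen M U V (val k V i) n
  | k + 1, U, .inr (.inr ⟨V, i⟩) => resOr M U V (val k V i)

/-- The submodule spanned by the generators. -/
def genSub (U : X.affineOpens) : Submodule Γ(X, U.1) Γ(M, U.1) :=
  Submodule.span _ (Set.range fun j : GenIdx U => val M U₀ s j.1 U j.2)

theorem genSub_res {U V : X.affineOpens} (h : U.1 ≤ V.1) {x : Γ(M, V.1)}
    (hx : x ∈ genSub M U₀ s V) : res M h x ∈ genSub M U₀ s U := by
  refine Submodule.span_le.mpr ?_ (res_mem_span h hx)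
  rintro _ ⟨_, ⟨⟨k, i⟩, rfl⟩, rfl⟩
  refine Submodule.subset_span ⟨⟨k + 1, .inr (.inr ⟨V, i⟩)⟩, ?_⟩
  change resOr M U V (val M U₀ s k V i) = _
  rw [resOr, dif_pos h]

theorem genSub_le_span {U V : X.affineOpens} (h : V.1 ≤ U.1) :
    genSub M U₀ s V ≤ Submodule.span Γ(X, V.1) (res M h '' (genSub M U₀ s U : Set Γ(M, U.1))) := by
  refine Submodule.span_le.mpr ?_
  rintro _ ⟨⟨k, i⟩, rfl⟩
  refine Submodule.span_le.mpr ?_ (gen_spec M U V (val M U₀ s k V i) h)
  rintro _ ⟨n, rfl⟩
  exact Submodule.subset_span ⟨_, Submodule.subset_span ⟨⟨k + 1, .inr (.inl ⟨V, i, n⟩)⟩, rfl⟩, rfl⟩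

omit [M.IsQuasicoherent] in
theorem exists_affine_le {W : X.Opens} {p : X} (hp : p ∈ W) :
    ∃ V : X.affineOpens, V.1 ≤ W ∧ p ∈ V.1 := by
  obtain ⟨_, ⟨V, hV, rfl⟩, hpV, hle⟩ := X.isBasis_affineOpens.exists_subset_of_mem_open hp W.2
  exact ⟨⟨V, hV⟩, hle, hpV⟩

/-- The glued subsheaf. -/
def genP : Sub M where
  carrier W :=
    { carrier := {x | ∀ p ∈ W, ∃ (V : X.affineOpens) (h : V.1 ≤ W), p ∈ V.1 ∧
        res M h x ∈ genSub M U₀ s V}
      add_mem' := by
        intro x y hx hy p hp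
        obtain ⟨V, hV, hpV, ex⟩ := hx p hp
        obtain ⟨V', hV', hpV', ey⟩ := hy p hp
        obtain ⟨A, hA, hpA⟩ := exists_affine_le (show p ∈ V.1 ⊓ V'.1 from ⟨hpV, hpV'⟩)
        refine ⟨A, hA.trans (inf_le_left.trans hV), hpA, ?_⟩
        have a := genSub_res M U₀ s (hA.trans inf_le_left) ex
        have b := genSub_res M U₀ s (hA.trans inf_le_right) ey
        rw [res_res] at a b
        rw [res_add]
        exact add_mem a b
      zero_mem' := fun p hp => by
        obtain ⟨A, hA, hpA⟩ := exists_affine_le hp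
        exact ⟨A, hA, hpA, by rw [res_zero]; exact zero_mem _⟩
      smul_mem' := fun a x hx p hp => by
        obtain ⟨V, hV, hpV, ex⟩ := hx p hp
        exact ⟨V, hV, hpV, by rw [res_smul]; exact Submodule.smul_mem _ _ ex⟩ }
  res_mem {W' W} h x hx p hp := by
    obtain ⟨V, hV, hpV, ex⟩ := hx p (h hp)
    obtain ⟨A, hA, hpA⟩ := exists_affine_le (show p ∈ W' ⊓ V.1 from ⟨hp, hpV⟩)
    refine ⟨A, hA.trans inf_le_left, hpA, ?_⟩
    have a := genSub_res M U₀ s (hA.trans inf_le_right) ex
    rw [res_res] at a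
    rw [res_res]
    exact a
  local_mem {W} x hx p hp := by
    obtain ⟨W', h, hp', e⟩ := hx p hp
    obtain ⟨V, hV, hpV, ex⟩ := e p hp'
    exact ⟨V, hV.trans h, hpV, by rwa [res_res] at ex⟩

theorem agreeOn_genP (D : X.affineOpens) :
    AgreeOn D.1 (genP M U₀ s) (locSpan (genSub M U₀ s D : Set Γ(M, D.1))) := by
  intro W hW
  ext x
  constructor
  · intro hx p hp _
    obtain ⟨V, hV, hpV, ex⟩ := hx p hp
    exact ⟨V.1, hV, hV.trans hW, hpV, genSub_le_span M U₀ s (hV.trans hW) ex⟩
  · intro hx p hp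
    obtain ⟨W', h, hD, hp', e⟩ := hx p hp (hW hp)
    obtain ⟨A, hA, hpA⟩ := exists_affine_le hp'
    refine ⟨A, hA.trans h, hpA, ?_⟩
    have a := res_mem_span hA e
    rw [res_res, image_res_res] at a
    refine Submodule.span_le.mpr ?_ a
    rintro _ ⟨y, hy, rfl⟩
    exact genSub_res M U₀ s _ hy

theorem genP_carrier (D : X.affineOpens) : (genP M U₀ s).carrier D.1 = genSub M U₀ s D := by
  refine le_antisymm (fun x hx => ?_) (fun x hx => ?_)
  · rw [agreeOn_genP M U₀ s D _ le_rfl] at hx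
    have := mem_span_of_mem_locSpan D.2 hx
    rwa [Submodule.span_eq] at this
  · rw [agreeOn_genP M U₀ s D _ le_rfl]
    have h := self_mem_locSpan (le_refl D.1) (S := (genSub M U₀ s D : Set Γ(M, D.1))) hx
    rwa [res_self] at h

end

/-- **Gabber's lemma.** -/
theorem exists_small_subobject (M : X.Modules) [M.IsQuasicoherent] (U₀ : X.affineOpens)
    (s : Γ(M, U₀.1)) :
    ∃ (P : X.Modules) (i : P ⟶ M), Mono i ∧ P.IsQuasicoherent ∧ (∃ t, i.app U₀.1 t = s) ∧
      ∀ U : X.affineOpens, ∃ g : GenIdx U → Γ(P, U.1),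
        Submodule.span Γ(X, U.1) (Set.range g) = ⊤ := by
  refine ⟨toMod (genP M U₀ s), toModι _, inferInstance,
    isQuasicoherent_of_forall_isLocAt _ fun D hD =>
      isLocAt_toMod _ hD (agreeOn_genP M U₀ s ⟨D, hD⟩), ?_, fun U => ?_⟩
  · rw [← mem_iff_exists, genP_carrier]
    refine Submodule.subset_span ⟨⟨0, PUnit.unit⟩, ?_⟩
    change resOr M U₀ U₀ s = s
    rw [resOr, dif_pos le_rfl, res_self]
  · have hmem : ∀ j : GenIdx U, ∃ y : Γ(toMod (genP M U₀ s), U.1),
        (toModι (genP M U₀ s)).app U.1 y = val M U₀ s j.1 U j.2 := fun j => by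
      rw [← mem_iff_exists, genP_carrier]
      exact Submodule.subset_span ⟨j, rfl⟩
    choose g hg using hmem
    refine ⟨g, eq_top_iff.mpr fun y _ => ?_⟩
    have hy : appLinear (toModι (genP M U₀ s)) U.1 y ∈
        (Submodule.span Γ(X, U.1) (Set.range g)).map (appLinear (toModι (genP M U₀ s)) U.1) := by
      rw [Submodule.map_span, ← Set.range_comp]
      rw [show (appLinear (toModι (genP M U₀ s)) U.1) ∘ g = fun j => val M U₀ s j.1 U j.2 from
        funext hg]
      change (toModι (genP M U₀ s)).app U.1 y ∈ genSub M U₀ s U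
      rw [← genP_carrier, mem_iff_exists]
      exact ⟨y, rfl⟩
    obtain ⟨z, hz, e⟩ := hy
    rwa [app_injective_of_mono (toModι (genP M U₀ s)) U.1 e] at hz

end Groth.Agent.QCGroth72
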