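import Groth.Agent.QCGroth72.Category
import Groth.Agent.QCGroth72.Gen
import Groth.Agent.QCFilt72.Presentable
import Mathlib.CategoryTheory.Abelian.GrothendieckCategory.Basic

/-!
The quasi-coherent modules on any scheme form a Grothendieck abelian category.
-/

set_option autoImplicit false
set_option backward.isDefEq.respectTransparency.types false

noncomputable section

universe u

open CategoryTheory Limits AlgebraicGeometry TopologicalSpace Opposite
open Groth.Agent.QC70

namespace Groth.Agent.QCGroth72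

variable {X : Scheme.{u}}

/-- The parameters for a small quasi-coherent module: relations between the generators. -/
def Rels (X : Scheme.{u}) : Type u :=
  ∀ U : X.affineOpens, Submodule Γ(X, U.1) (GenIdx U →₀ Γ(X, U.1))

/-- The product of the pushforwards of the modules presented by `K` on each affine open. -/
def ambient (K : Rels X) : X.Modules :=
  ∏ᶜ fun U : X.affineOpens => (Scheme.Modules.pushforward U.2.fromSpec).obj
    (tilde (ModuleCat.of Γ(X, U.1) ((GenIdx U →₀ Γ(X, U.1)) ⧸ K U)))

/-- A quasi-coherent module with bounded generators over each affine open embeds in some ambient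
module. -/
theorem exists_mono_ambient (P : X.Modules) [P.IsQuasicoherent]
    (g : ∀ U : X.affineOpens, GenIdx U → Γ(P, U.1))
    (hg : ∀ U : X.affineOpens, Submodule.span Γ(X, U.1) (Set.range (g U)) = ⊤) :
    ∃ (K : Rels X) (m : P ⟶ ambient K), Mono m := by
  have key : ∀ U : X.affineOpens,
      ∃ K : Submodule Γ(X, U.1) (GenIdx U →₀ Γ(X, U.1)),
        Nonempty ((Scheme.Modules.restrictFunctor U.2.fromSpec).obj P ≅
          tilde (ModuleCat.of Γ(X, U.1) ((GenIdx U →₀ Γ(X, U.1)) ⧸ K))) := by
    intro U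
    obtain ⟨U, hU⟩ := U
    let N := specRes P hU
    have himTop : hU.fromSpec ''ᵁ ⊤ = U := by
      rw [Scheme.Hom.image_top_eq_opensRange, hU.opensRange_fromSpec]
    let eT : Γ(N, ⊤) ≃+ Γ(P, U) :=
      (P.restrictAppIso hU.fromSpec ⊤ ≪≫
        P.presheaf.mapIso (eqToIso himTop.symm).op).addCommGroupIsoToAddEquiv
    have eT_smul : ∀ (r : Γ(X, U)) x, eT (r • x) = r • eT x := fun r x => by
      change res P himTop.ge ((P.restrictAppIso hU.fromSpec ⊤).hom (r • x)) =
        r • res P himTop.ge ((P.restrictAppIso hU.fromSpec ⊤).hom x)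
      rw [specRes_smul P hU ⊤ himTop.le, res_smul, resO_resO, resO_self]
    let M' : ModuleCat Γ(X, U) := moduleSpecΓFunctor.obj N
    let eL : M' ≃ₗ[Γ(X, U)] Γ(P, U) := { eT with map_smul' := eT_smul }
    let φ : (GenIdx ⟨U, hU⟩ →₀ Γ(X, U)) →ₗ[Γ(X, U)] Γ(P, U) :=
      Finsupp.linearCombination Γ(X, U) (g ⟨U, hU⟩)
    have hφ : Function.Surjective φ := by
      rw [← LinearMap.range_eq_top, Finsupp.range_linearCombination]
      exact hg ⟨U, hU⟩
    refine ⟨LinearMap.ker φ, ⟨(asIso N.fromTildeΓ).symm ≪≫ (tilde.functor _).mapIso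
      (LinearEquiv.toModuleIso (eL.trans (φ.quotKerEquivOfSurjective hφ).symm))⟩⟩
  choose K e using key
  let m : P ⟶ ambient K := Pi.lift fun U =>
    (Scheme.Modules.restrictAdjunction U.2.fromSpec).unit.app P ≫
      (Scheme.Modules.pushforward U.2.fromSpec).map (e U).some.hom
  refine ⟨K, m, Preadditive.mono_of_cancel_zero _ fun {Z} φ hφ => ?_⟩
  have hz : ∀ U : X.affineOpens,
      (Scheme.Modules.restrictFunctor U.2.fromSpec).map φ = 0 := by
    intro U
    have h1 : φ ≫ (Scheme.Modules.restrictAdjunction U.2.fromSpec).unit.app P = 0 := by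
      refine (cancel_mono ((Scheme.Modules.pushforward U.2.fromSpec).map (e U).some.hom)).mp ?_
      rw [zero_comp, Category.assoc]
      have := hφ =≫ Pi.π _ U
      simp only [Category.assoc, m, ambient, Pi.lift_π] at this
      exact this.trans Limits.zero_comp
    apply ((Scheme.Modules.restrictAdjunction U.2.fromSpec).homEquiv _ _).injective
    rw [Adjunction.homEquiv_unit, Adjunction.homEquiv_unit, Functor.map_zero, comp_zero]
    exact ((Scheme.Modules.restrictAdjunction U.2.fromSpec).unit.naturality φ).symm.trans h1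
  refine Scheme.Modules.hom_ext _ _ fun V => ?_
  refine ConcreteCategory.hom_ext _ _ fun x => ?_
  refine TopCat.Presheaf.section_ext (⟨_, P.isSheaf⟩ : TopCat.Sheaf AddCommGrpCat X) V _ _
    fun p hp => ?_
  obtain ⟨U, hUV, hpU⟩ := exists_affine_le hp
  have hU0 : ∀ y, φ.app U.1 y = 0 := by
    intro y
    have himTop : U.2.fromSpec ''ᵁ ⊤ = U.1 := by
      rw [Scheme.Hom.image_top_eq_opensRange, U.2.opensRange_fromSpec]
    have h2 : φ.app (U.2.fromSpec ''ᵁ ⊤) (res Z himTop.le y) = 0 := by
      obtain ⟨y', hy'⟩ := (ConcreteCategory.bijective_of_isIso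
        (Z.restrictAppIso U.2.fromSpec ⊤).hom).2 (res Z himTop.le y)
      rw [← hy']
      have h3 := congrArg (fun ψ => (P.restrictAppIso U.2.fromSpec ⊤).hom
        (Scheme.Modules.Hom.app ψ ⊤ y')) (hz U)
      simp only [Scheme.Modules.Hom.zero_app] at h3
      refine Eq.trans ?_ (h3.trans (map_zero _))
      rfl
    have h4 := congrArg (res P himTop.ge) h2
    rw [← app_res, res_res, res_self, res_zero] at h4
    exact h4
  change germM P V p hp (φ.app V x) = germM P V p hp ((0 : Z ⟶ P).app V x)
  rw [← germM_res hUV hpU, ← app_res, hU0]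
  exact (germM_zero _).trans (germM_zero hp).symm

/-- The index type of the separating family. -/
def SepIdx (X : Scheme.{u}) : Type u :=
  { p : Σ K : Rels X, Shrink.{u} (Subobject (ambient K)) //
    ((equivShrink (Subobject (ambient p.1))).symm p.2 : X.Modules).IsQuasicoherent }

/-- The separating family. -/
def sepFamily (p : SepIdx X) : QCohCat.QCoh X :=
  ⟨((equivShrink (Subobject (ambient p.1.1))).symm p.1.2 : X.Modules), p.2⟩

theorem exists_iso_sepFamily (P : X.Modules) [P.IsQuasicoherent]
    (g : ∀ U : X.affineOpens, GenIdx U → Γ(P, U.1))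
    (hg : ∀ U : X.affineOpens, Submodule.span Γ(X, U.1) (Set.range (g U)) = ⊤) :
    ∃ p : SepIdx X, Nonempty ((sepFamily p).obj ≅ P) := by
  obtain ⟨K, m, _⟩ := exists_mono_ambient P g hg
  have h : ((equivShrink (Subobject (ambient K))).symm
      (equivShrink _ (Subobject.mk m)) : X.Modules).IsQuasicoherent := by
    rw [Equiv.symm_apply_apply]
    exact QC70.isQuasicoherent_of_iso (Subobject.underlyingIso m).symm inferInstance
  refine ⟨⟨⟨K, equivShrink _ (Subobject.mk m)⟩, h⟩, ⟨eqToIso ?_ ≪≫ Subobject.underlyingIso m⟩⟩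
  exact congrArg (fun S : Subobject (ambient K) => (S : X.Modules)) (Equiv.symm_apply_apply _ _)

theorem isSeparating_sepFamily :
    (ObjectProperty.ofObj (sepFamily (X := X))).IsSeparating := by
  intro M N f g h
  have : M.obj.IsQuasicoherent := M.property
  have : ((QCohCat.isQCoh X).ι.obj M).IsQuasicoherent := M.property
  refine (QCohCat.isQCoh X).ι.map_injective (sub_eq_zero.mp
    (QCFilt72.hom_eq_zero_of_sections _ (fun U : X.affineOpens => U.1) (fun U => U.2)
      (iSup_affineOpens_eq_top X) fun U s => ?_))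
  obtain ⟨P, i, _, hP, ⟨t, ht⟩, hgen⟩ := exists_small_subobject M.obj U s
  choose gg hgg using hgen
  obtain ⟨p, ⟨e⟩⟩ := exists_iso_sepFamily P gg hgg
  have hh := congrArg (fun ψ => Scheme.Modules.Hom.app ψ U.1 (e.inv.app U.1 t))
    (congrArg (fun k => k.hom) (h _ ⟨p⟩ (ObjectProperty.homMk (e.hom ≫ i))))
  simp only [ObjectProperty.FullSubcategory.comp_hom, ObjectProperty.homMk_hom,
    ZClos93.app_comp_apply] at hh
  rw [← ZClos93.app_comp_apply e.inv e.hom, e.inv_hom_id, Scheme.Modules.Hom.id_app] at hh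
  change f.hom.app U.1 (i.app U.1 t) = g.hom.app U.1 (i.app U.1 t) at hh
  rw [ht] at hh
  change f.hom.app U.1 s - g.hom.app U.1 s = 0
  rw [hh, sub_self]

theorem hasSeparator : HasSeparator (QCohCat.QCoh X) :=
  ⟨⟨∐ (sepFamily (X := X)), isSeparating_sepFamily.isSeparator_coproduct⟩⟩

instance isGrothendieckAbelian : IsGrothendieckAbelian.{u} (QCohCat.QCoh X) where
  hasSeparator := hasSeparator

end Groth.Agent.QCGroth72
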