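import Groth.Agent.QC70.Colim
import Groth.Agent.QC70.Closure
import Groth.Agent.Coh69.Grothendieck
import Groth.Prelude.Def_QCohCat
import Mathlib.CategoryTheory.Abelian.Subcategory
import Mathlib.CategoryTheory.Abelian.GrothendieckAxioms.Basic
import Mathlib.CategoryTheory.Subobject.WellPowered

set_option autoImplicit false
set_option backward.isDefEq.respectTransparency.types false

/-! The category of quasi-coherent modules: abelian, cocomplete, exact filtered colimits,
well-powered. -/

noncomputable section

universe u

open CategoryTheory Limits AlgebraicGeometry TopologicalSpace Opposite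
open Groth.Agent.QC70

namespace Groth.Agent.QCGroth72

variable {X : Scheme.{u}}

instance : (QCohCat.isQCoh X).IsClosedUnderIsomorphisms :=
  ⟨fun e h => QC70.isQuasicoherent_of_iso e h⟩

instance : (QCohCat.isQCoh X).ContainsZero :=
  have : HasZeroObject X.Modules := inferInstance
  ⟨_, isZero_zero X.Modules, isQuasicoherent_of_isZero (isZero_zero X.Modules)⟩

instance : (QCohCat.isQCoh X).IsClosedUnderKernels :=
  ⟨fun M h => by
    cases h with
    | of_isLimit f k hk hf =>
      haveI : SheafOfModules.IsQuasicoherent (R := X.ringCatSheaf) _ := hf.1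
      haveI : SheafOfModules.IsQuasicoherent (R := X.ringCatSheaf) _ := hf.2
      exact QC70.isQuasicoherent_of_iso ((kernelIsKernel f).conePointUniqueUpToIso hk)
        (QC70.isQuasicoherent_kernel f)⟩

instance : (QCohCat.isQCoh X).IsClosedUnderCokernels :=
  ⟨fun M h => by
    cases h with
    | of_isColimit f k hk hf =>
      haveI : SheafOfModules.IsQuasicoherent (R := X.ringCatSheaf) _ := hf.1
      haveI : SheafOfModules.IsQuasicoherent (R := X.ringCatSheaf) _ := hf.2
      exact QC70.isQuasicoherent_of_iso ((cokernelIsCokernel f).coconePointUniqueUpToIso hk)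
        (QC70.isQuasicoherent_cokernel f)⟩

instance closedUnderColimits (J : Type u) [SmallCategory J] :
    (QCohCat.isQCoh X).IsClosedUnderColimitsOfShape J :=
  ⟨fun M ⟨p⟩ => isQuasicoherent_colimit p.diag p.prop_diag_obj p.isColimit⟩

instance : (QCohCat.isQCoh X).IsClosedUnderFiniteProducts := by
  refine ObjectProperty.IsClosedUnderFiniteProducts.of_isClosedUnderLimitsOfShape.{u} fun J _ => ?_
  refine ⟨fun M ⟨p⟩ => ?_⟩
  classical
  cases nonempty_fintype J
  haveI : HasFiniteBiproducts X.Modules := Abelian.hasFiniteBiproducts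
  let f : J → X.Modules := fun j => p.diag.obj ⟨j⟩
  have h : (∐ f).IsQuasicoherent := isQuasicoherent_coproduct f fun j => p.prop_diag_obj ⟨j⟩
  exact QC70.isQuasicoherent_of_iso
    ((biproduct.isoCoproduct f).symm ≪≫ biproduct.isoProduct f ≪≫
      (limit.isLimit (Discrete.functor f)).conePointsIsoOfNatIso p.isLimit
        (Discrete.natIso fun ⟨j⟩ => Iso.refl _)) h

instance instAbelian : Abelian (QCohCat.QCoh X) :=
  inferInstanceAs (Abelian (QCohCat.isQCoh X).FullSubcategory)

instance hasColimitsOfShape (J : Type u) [SmallCategory J] :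
    HasColimitsOfShape J (QCohCat.QCoh X) :=
  hasColimitsOfShape_of_closedUnderColimits _ _

instance hasColimits : HasColimitsOfSize.{u, u} (QCohCat.QCoh X) :=
  ⟨fun J _ => hasColimitsOfShape J⟩

instance preservesColimits_ι : PreservesColimitsOfSize.{u, u} (QCohCat.isQCoh X).ι :=
  ⟨fun {J} _ =>
    letI : CreatesColimitsOfShape J (QCohCat.isQCoh X).ι :=
      createsColimitsOfShapeFullSubcategoryInclusion J _
    preservesColimitOfShape_of_createsColimitsOfShape_and_hasColimitsOfShape _⟩

instance preservesFiniteLimits_ι : PreservesFiniteLimits (QCohCat.isQCoh X).ι := by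
  have h : ∀ ⦃A B : QCohCat.QCoh X⦄ (f : A ⟶ B),
      PreservesLimit (parallelPair f 0) (QCohCat.isQCoh X).ι :=
    fun A B f => (QCohCat.isQCoh X).preservesKernels_ι f
  haveI := Functor.preservesFiniteLimits_of_preservesKernels (QCohCat.isQCoh X).ι
  infer_instance

instance : ReflectsFiniteLimits (QCohCat.isQCoh X).ι := inferInstance

instance ab5 : AB5OfSize.{u, u} (QCohCat.QCoh X) where
  ofShape J _ _ := HasExactColimitsOfShape.domain_of_functor J (QCohCat.isQCoh X).ι

instance : LocallySmall.{u} (QCohCat.QCoh X) := inferInstance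

end Groth.Agent.QCGroth72
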