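import Groth.Agent.ZClos93.FiltColim
import Groth.Agent.QC70.PushClosed

/-!
The direct image along a closed immersion preserves all colimits of modules.
-/

set_option autoImplicit false
set_option backward.isDefEq.respectTransparency.types false

noncomputable section

universe u

open CategoryTheory Limits AlgebraicGeometry TopologicalSpace Opposite
open Groth.Agent.QC70 Groth.Agent.ZClos93

namespace Groth.Agent.QCGroth72

variable {X Z : Scheme.{u}} (i : Z ⟶ X) [IsClosedImmersion i]

/-- Stalks of a direct image at a point of the image. -/
def pushStalkNatIso (z : Z) :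
    Scheme.Modules.pushforward i ⋙ stalkF (i z) ≅ stalkF z :=
  NatIso.ofComponents
    (fun H => @asIso _ _ _ _ (TopCat.Presheaf.stalkPushforward AddCommGrpCat.{u} i.base H.presheaf z)
      (TopCat.Presheaf.stalkPushforward.stalkPushforward_iso_of_isInducing AddCommGrpCat.{u}
        i.isClosedEmbedding.isInducing _ z))
    (fun {H H'} φ => ConcreteCategory.hom_ext _ _ fun e => pushStalk_stalkMapM i H φ z e)

theorem subsingleton_stalk_pushforward (H : Z.Modules) {x : X} (hx : x ∉ Set.range i) :
    Subsingleton (((Scheme.Modules.pushforward i).obj H).presheaf.stalk x) := by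
  refine subsingleton_of_forall_eq 0 fun e => ?_
  obtain ⟨W, hxW, s, rfl⟩ := germM_exist e
  let V : X.Opens := ⟨(Set.range i)ᶜ, i.isClosedEmbedding.isClosed_range.isOpen_compl⟩
  have hxV : x ∈ W ⊓ V := ⟨hxW, hx⟩
  have he : i ⁻¹ᵁ (W ⊓ V) = ⊥ := by
    ext z
    exact ⟨fun h => (h.2 ⟨z, rfl⟩).elim, fun h => h.elim⟩
  rw [← germM_res (inf_le_left : W ⊓ V ≤ W) hxV s]
  refine (congrArg (germM _ (W ⊓ V) x hxV) ?_).trans (germM_zero hxV)
  exact section_ext H _ _ fun p hp => (he.le hp).elim

theorem preservesColimits_pushforward_stalkF (x : X) (K : Type u) [SmallCategory K] :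
    PreservesColimitsOfShape K (Scheme.Modules.pushforward i ⋙ stalkF x) := by
  by_cases hx : x ∈ Set.range i
  · obtain ⟨z, rfl⟩ := hx
    have := preservesColimits_stalkF z K
    exact preservesColimitsOfShape_of_natIso (pushStalkNatIso i z).symm
  · have h0 : ∀ H : Z.Modules, IsZero ((Scheme.Modules.pushforward i ⋙ stalkF x).obj H) := fun H =>
      have : Subsingleton ((Scheme.Modules.pushforward i ⋙ stalkF x).obj H) :=
        subsingleton_stalk_pushforward i H hx
      AddCommGrpCat.isZero_of_subsingleton _
    exact ⟨fun {D} => ⟨fun {c} _ => ⟨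
      { desc := fun _ => 0
        fac := fun _ _ => (h0 _).eq_of_src _ _
        uniq := fun _ _ _ => (h0 _).eq_of_src _ _ }⟩⟩⟩

instance preservesColimitsOfShape_pushforward (K : Type u) [SmallCategory K] :
    PreservesColimitsOfShape K (Scheme.Modules.pushforward i) where
  preservesColimit {D} := by
    have : IsIso (colimit.post D (Scheme.Modules.pushforward i)) := by
      refine isIso_of_bijective_stalkMapM _ fun x => ?_
      have := preservesColimits_pushforward_stalkF i x K
      have := preservesColimits_stalkF x K
      have h : IsIso ((stalkF x).map (colimit.post D (Scheme.Modules.pushforward i))) := by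
        have h1 := colimit.post_post D (Scheme.Modules.pushforward i) (stalkF x)
        have : IsIso (colimit.post (D ⋙ Scheme.Modules.pushforward i) (stalkF x) ≫
            (stalkF x).map (colimit.post D (Scheme.Modules.pushforward i))) :=
          h1 ▸ inferInstance
        exact IsIso.of_isIso_comp_left (colimit.post (D ⋙ Scheme.Modules.pushforward i) (stalkF x)) _
      exact ConcreteCategory.bijective_of_isIso
        ((stalkF x).map (colimit.post D (Scheme.Modules.pushforward i)))
    exact preservesColimit_of_isIso_post _ _

instance preservesColimits_pushforward :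
    PreservesColimitsOfSize.{u, u} (Scheme.Modules.pushforward i) :=
  ⟨fun {K} _ => preservesColimitsOfShape_pushforward i K⟩

end Groth.Agent.QCGroth72
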